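import Cfsg.Agent.Lib.Known.SpEvenDegree.Setup
import Mathlib.Analysis.Fourier.FiniteAbelian.PontryaginDuality
import Mathlib.GroupTheory.Index

/-!
Characters of the radical in characteristic two, and the count of the vectors at which a
nondegenerate quadratic form has an Artin–Schreier trivial value.
-/

set_option autoImplicit false

namespace CfsgLib.Known.SpEvenDegree

open CfsgLib.Known.AutPSp CfsgLib.Classical

attribute [local instance] _root_.Classical.propDecidable

variable (F : Type*) [Field F] [CharP F 2]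

/-- `x ↦ x² + x`. -/
def asHom : F →+ F where
  toFun x := x ^ 2 + x
  map_zero' := by simp
  map_add' a b := by rw [CharTwo.add_sq]; ring

theorem index_asHom [Fintype F] : (asHom F).range.index = 2 := by
  have hk : ((asHom F).ker : Set F) = {0, 1} := by
    ext x
    simp only [SetLike.mem_coe, AddMonoidHom.mem_ker, Set.mem_insert_iff, Set.mem_singleton_iff]
    show x ^ 2 + x = 0 ↔ _
    rw [show x ^ 2 + x = x * (x + 1) by ring, mul_eq_zero, CharTwo.add_eq_zero]
  have h2 : Nat.card (asHom F).ker = 2 := by
    rw [show Nat.card (asHom F).ker = ({0, 1} : Set F).ncard by rw [← hk]; exact Nat.card_coe_set_eq _,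
      Set.ncard_pair zero_ne_one]
  have h3 := AddSubgroup.index_ker (asHom F)
  have h4 := (asHom F).range.index_mul_card
  have h5 := (asHom F).ker.index_mul_card
  rw [h2, h3] at h5
  rw [← h5] at h4
  exact Nat.eq_of_mul_eq_mul_right Nat.card_pos (h4.trans (mul_comm _ _))

/-- The sign character killing the Artin–Schreier image. -/
noncomputable def sgn [Fintype F] : AddChar F ℂ where
  toFun x := if x ∈ (asHom F).range then 1 else -1
  map_zero_eq_one' := if_pos (zero_mem _)
  map_add_eq_mul' a b := by
    have := AddSubgroup.add_mem_iff_of_index_two (index_asHom F) (a := a) (b := b)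
    by_cases ha : a ∈ (asHom F).range <;> by_cases hb : b ∈ (asHom F).range <;> simp_all

variable {F} [Fintype F]

theorem sgn_sq (x : F) : sgn F (x ^ 2) = sgn F x := by
  have h : sgn F (x ^ 2 + x) = 1 := if_pos ⟨x, rfl⟩
  rw [AddChar.map_add_eq_mul] at h
  have h2 : sgn F x * sgn F x = 1 := by
    rw [← AddChar.map_add_eq_mul, CharTwo.add_self_eq_zero, AddChar.map_zero_eq_one]
  calc sgn F (x ^ 2) = sgn F (x ^ 2) * (sgn F x * sgn F x) := by rw [h2, mul_one]
    _ = sgn F x := by rw [← mul_assoc, h, one_mul]

theorem eq_zero_of_sgn {a : F} (h : ∀ x, sgn F (x * a) = 1) : a = 0 := by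
  by_contra ha
  obtain ⟨c, hc⟩ : ∃ c, c ∉ (asHom F).range := by
    by_contra hcon
    push Not at hcon
    have := index_asHom F
    rw [(AddSubgroup.eq_top_iff' _).2 hcon, AddSubgroup.index_top] at this
    omega
  have h1 : sgn F c = 1 := by simpa [div_mul_cancel₀ _ ha] using h (c / a)
  rw [show sgn F c = -1 from if_neg hc] at h1
  norm_num at h1

variable {m : ℕ}

/-- The character with parameters `(a, v)`. -/
noncomputable def chi (a : F) (v : Vec m F) : AddChar (Vec m F × F) ℂ :=
  (sgn F).compAddMonoidHom
    { toFun := fun z => a * z.2 + bf v z.1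
      map_zero' := by simp
      map_add' := fun z z' => by simp only [Prod.snd_add, Prod.fst_add, map_add]; ring }

theorem chi_apply (a : F) (v : Vec m F) (z : Vec m F × F) : chi a v z = sgn F (a * z.2 + bf v z.1) := rfl

theorem sgn_bf_eq_one {v : Vec m F} (h : ∀ w, sgn F (bf v w) = 1) : v = 0 := by
  refine (Symp.sympBil_nondegenerate m F).1 v fun w => eq_zero_of_sgn fun x => ?_
  have := h (x • w)
  rwa [LinearMap.map_smul, smul_eq_mul] at this

theorem chi_injective : Function.Injective fun p : F × Vec m F => chi p.1 p.2 := by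
  rintro ⟨a, v⟩ ⟨b, w⟩ h
  have key : ∀ z : Vec m F × F, sgn F ((a + b) * z.2 + bf (v + w) z.1) = 1 := fun z => by
    have hz : sgn F (a * z.2 + bf v z.1) = sgn F (b * z.2 + bf w z.1) := DFunLike.congr_fun h z
    rw [show (a + b) * z.2 + bf (v + w) z.1 = (a * z.2 + bf v z.1) + (b * z.2 + bf w z.1) by
      rw [map_add (bf : LinearMap.BilinForm F (Vec m F)), LinearMap.add_apply]; ring,
      AddChar.map_add_eq_mul, hz,
      ← AddChar.map_add_eq_mul, CharTwo.add_self_eq_zero, AddChar.map_zero_eq_one]
  have e1 : a + b = 0 := eq_zero_of_sgn fun x => by simpa [mul_comm] using key (0, x)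
  have e2 : v + w = 0 := sgn_bf_eq_one fun u => by simpa using key (u, 0)
  refine Prod.ext (CharTwo.add_eq_zero.1 e1) ?_
  funext i
  exact CharTwo.add_eq_zero.1 (congrFun e2 i)

theorem exists_chi (μ : AddChar (Vec m F × F) ℂ) : ∃ (a : F) (v : Vec m F), μ = chi a v := by
  classical
  obtain ⟨⟨a, v⟩, h⟩ := ((Fintype.bijective_iff_injective_and_card (fun p : F × Vec m F => chi p.1 p.2)).2
    ⟨chi_injective, by rw [AddChar.card_eq, Fintype.card_prod, Fintype.card_prod, mul_comm]⟩).2 μ
  exact ⟨a, v, h.symm⟩

theorem chi_eq_zero_iff {a : F} {v : Vec m F} : chi a v = 0 ↔ a = 0 ∧ v = 0 := by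
  have h0 : chi (0 : F) (0 : Vec m F) = 0 := DFunLike.ext _ _ fun z => by simp [chi_apply]
  constructor
  · intro h
    have := @chi_injective F _ _ _ m (a, v) (0, 0) (h.trans h0.symm)
    simpa using this
  · rintro ⟨rfl, rfl⟩; exact h0

/-- The quadratic form belonging to a parameter. -/
noncomputable def qform (v d : Vec m F) : F := qf d + bf v d ^ 2

omit [Fintype F] in
theorem qform_add (v d w : Vec m F) : qform v (d + w) = qform v d + qform v w + bf d w := by
  rw [qform, qform, qform, qf_add, map_add, CharTwo.add_sq]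
  ring

/-- The vectors whose value is in the Artin–Schreier image. -/
noncomputable def goodSet (v : Vec m F) : Finset (Vec m F) :=
  Finset.univ.filter fun d => qform v d ∈ (asHom F).range

theorem two_mul_card_goodSet (v : Vec m F) :
    Fintype.card F ^ m * (Fintype.card F ^ m - 1) ≤ 2 * (goodSet v).card := by
  classical
  set M := Fintype.card F ^ m with hM
  have hW : Fintype.card (Vec m F) = M * M := by
    rw [Fintype.card_fun, Fintype.card_sum, Fintype.card_fin, pow_add]
  set S : ℂ := ∑ d, sgn F (qform v d) with hS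
  have hS1 : S = 2 * (goodSet v).card - (M * M : ℕ) := by
    rw [← hW, goodSet, Finset.card_filter, Fintype.card_eq_sum_ones, hS]
    push_cast
    rw [Finset.mul_sum, ← Finset.sum_sub_distrib]
    refine Finset.sum_congr rfl fun d _ => ?_
    show (if qform v d ∈ (asHom F).range then (1 : ℂ) else -1) = _
    split <;> norm_num
  have hpair : ∀ d w, sgn F (qform v d) * sgn F (qform v (d + w)) = sgn F (qform v w) * sgn F (bf d w) := by
    intro d w
    rw [← AddChar.map_add_eq_mul, ← AddChar.map_add_eq_mul, qform_add]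
    congr 1
    linear_combination CharTwo.add_self_eq_zero (qform v d)
  have hsum : ∀ w : Vec m F, (∑ d, sgn F (bf d w)) = if w = 0 then ((M * M : ℕ) : ℂ) else 0 := by
    intro w
    let μ : AddChar (Vec m F) ℂ := (sgn F).compAddMonoidHom
      { toFun := fun d => bf d w, map_zero' := by simp, map_add' := fun a b => by simp }
    show ∑ d, μ d = _
    rw [AddChar.sum_eq_ite, hW]
    refine if_congr ⟨fun h => sgn_bf_eq_one fun d => ?_, ?_⟩ rfl rfl
    · rw [bf_comm]; exact DFunLike.congr_fun h d
    · rintro rfl; exact DFunLike.ext _ _ fun d => by simp [μ]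
  have hS2 : S * S = (M * M : ℕ) := by
    calc S * S = ∑ d, ∑ w, sgn F (qform v d) * sgn F (qform v (d + w)) := by
          rw [hS, Finset.sum_mul_sum]
          exact Finset.sum_congr rfl fun d _ =>
            (Equiv.sum_comp (Equiv.addLeft d) fun e => sgn F (qform v d) * sgn F (qform v e)).symm
      _ = ∑ w, sgn F (qform v w) * ∑ d, sgn F (bf d w) := by
          simp only [hpair]
          rw [Finset.sum_comm]
          exact Finset.sum_congr rfl fun w _ => (Finset.mul_sum _ _ _).symm
      _ = _ := by simp [hsum, qform, qf_zero]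
  have hZ : ((2 * (goodSet v).card : ℤ) - M * M) ^ 2 = (M : ℤ) * M := by
    rw [hS1] at hS2
    have : (((2 * (goodSet v).card : ℤ) - M * M) ^ 2 : ℂ) = ((M : ℤ) * M : ℂ) := by
      push_cast at hS2 ⊢
      linear_combination hS2
    exact_mod_cast this
  have hM1 : 1 ≤ M := Nat.one_le_pow _ _ Fintype.card_pos
  have : (M : ℤ) * (M - 1) ≤ 2 * (goodSet v).card := by
    rcases sq_eq_sq_iff_eq_or_eq_neg.1 (hZ.trans (sq (M : ℤ)).symm) with h | h <;> nlinarith
  zify [hM1]
  exact this

end CfsgLib.Known.SpEvenDegree
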