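import Cfsg.Agent.Lib.Known.SpEvenDegree.Chars
import Cfsg.Agent.Lib.Char.Exceptional.CrossChar

/-!
The least degree of a nontrivial complex representation of the symplectic group in characteristic two.

The radical of a point stabiliser supplies an orbit of `(q - 1) q^m (q^m - 1) / 2` characters; the rest
of the bound comes either from a nontrivial action of the smaller group on the fixed points of the
radical, or from the characters trivial on the root group, and one of the two must occur.
-/

set_option autoImplicit false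

namespace CfsgLib.Known.SpEvenDegree

open CfsgLib.Known.AutPSp CfsgLib.Classical CfsgLib.CrossChar Module

attribute [local instance] _root_.Classical.propDecidable

variable {F : Type*} [Field F] [CharP F 2] [Fintype F] {m : ℕ}
variable {U : Type*} [AddCommGroup U] [Module ℂ U]
variable (R : SpM (m + 1) F →* Module.End ℂ U)

/-- The operator of an element of the radical. -/
noncomputable def radOp (z : Vec m F × F) : Module.End ℂ U := R (rad (Multiplicative.ofAdd z))

omit [Fintype F] in
theorem radOp_add (z z' : Vec m F × F) : radOp R (z + z') = radOp R z * radOp R z' := by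
  rw [radOp, radOp, radOp, ofAdd_add, map_mul, map_mul]

omit [Fintype F] in
theorem neg_eq_self (z : Vec m F × F) : -z = z :=
  Prod.ext (funext fun i => CharTwo.neg_eq (z.1 i)) (CharTwo.neg_eq z.2)

/-- The projection belonging to a character. -/
noncomputable def proj' (χ : AddChar (Vec m F × F) ℂ) : Module.End ℂ U :=
  ∑ z, χ z • radOp R z

theorem radOp_proj (χ : AddChar (Vec m F × F) ℂ) (p : Vec m F × F) (x : U) :
    radOp R p (proj' R χ x) = χ p • proj' R χ x := by
  rw [proj', LinearMap.sum_apply, map_sum, Finset.smul_sum, ← Equiv.sum_comp (Equiv.addLeft p)]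
  refine Finset.sum_congr rfl fun z _ => ?_
  simp only [Equiv.coe_addLeft, LinearMap.smul_apply, map_smul, smul_smul]
  rw [← Module.End.mul_apply, ← radOp_add, ← add_assoc]
  have hp : p + p = 0 := by nth_rw 1 [← neg_eq_self p]; rw [neg_add_cancel]
  rw [hp, zero_add, AddChar.map_add_eq_mul]

theorem proj_eigen {μ χ : AddChar (Vec m F × F) ℂ} {x : U} (hx : ∀ z, radOp R z x = μ z • x) :
    proj' R χ x = (if χ = μ then (Fintype.card (Vec m F × F) : ℂ) else 0) • x := by
  simp only [proj', LinearMap.sum_apply, LinearMap.smul_apply, hx, smul_smul, ← Finset.sum_smul]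
  congr 1
  rw [show (∑ z, χ z * μ z) = ∑ z, (χ - μ) z from Finset.sum_congr rfl fun z _ => by
    rw [AddChar.sub_apply, neg_eq_self], AddChar.sum_eq_ite]
  exact if_congr sub_eq_zero rfl rfl

theorem sum_proj (x : U) :
    ∑ χ : AddChar (Vec m F × F) ℂ, proj' R χ x = (Fintype.card (Vec m F × F) : ℂ) • x := by
  simp only [proj', LinearMap.sum_apply, LinearMap.smul_apply]
  rw [Finset.sum_comm]
  simp only [← Finset.sum_smul, AddChar.sum_apply_eq_ite, ite_smul, zero_smul, Finset.sum_ite_eq',
    Finset.mem_univ, if_true]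
  rw [show radOp R 0 = 1 by rw [radOp, ofAdd_zero, map_one, map_one]]
  rfl

/-- The fixed points of the radical. -/
noncomputable def fixRad : Submodule ℂ U := ⨅ z, LinearMap.ker (radOp R z - 1)

/-- The fixed points of the root group. -/
noncomputable def fixRoot : Submodule ℂ U := ⨅ c : F, LinearMap.ker (R (tv eVec c) - 1)

omit [Fintype F] in
theorem mem_fixRad {x : U} : x ∈ fixRad R ↔ ∀ z, radOp R z x = x := by
  simp [fixRad, Submodule.mem_iInf, sub_eq_zero]

omit [Fintype F] [CharP F 2] in
theorem mem_fixRoot {x : U} : x ∈ fixRoot R ↔ ∀ c, R (tv eVec c) x = x := by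
  simp [fixRoot, Submodule.mem_iInf, sub_eq_zero]

omit [Fintype F] in
theorem fixRad_le_fixRoot : fixRad R ≤ fixRoot R := fun x hx =>
  (mem_fixRoot R).2 fun c => by
    rw [← rad_center]; exact (mem_fixRad R).1 hx (0, c)

theorem card_add_finrank_le [FiniteDimensional ℂ U] {J : Type*} [Fintype J]
    (μ : J → AddChar (Vec m F × F) ℂ) (hinj : Function.Injective μ) (hne : ∀ j, μ j ≠ 0)
    (h : ∀ j, Has R rad (μ j)) : Fintype.card J + finrank ℂ (fixRad R) ≤ finrank ℂ U := by
  choose x hx0 hx using h
  let L : (J → ℂ) × fixRad R →ₗ[ℂ] U := (Fintype.linearCombination ℂ x).coprod (fixRad R).subtype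
  have hL : Function.Injective L := by
    rw [injective_iff_map_eq_zero]
    rintro ⟨c, y⟩ hcy
    have hcy' : (∑ j, c j • x j) + (y : U) = 0 := hcy
    have hy : ∀ χ, χ ≠ 0 → proj' R χ (y : U) = 0 := fun χ hχ => by
      rw [proj_eigen R (μ := 0) fun z => by rw [(mem_fixRad R).1 y.2, AddChar.zero_apply, one_smul],
        if_neg hχ, zero_smul]
    have hc : c = 0 := funext fun i => by
      have e := congrArg (proj' R (μ i)) hcy'
      rw [map_add, map_sum, hy _ (hne i), map_zero, add_zero] at e
      simp only [map_smul, proj_eigen R (hx _)] at e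
      rw [Finset.sum_eq_single i (fun j _ hj => by rw [if_neg (fun h => hj (hinj h).symm), zero_smul, smul_zero])
        (fun h => absurd (Finset.mem_univ i) h), if_pos rfl, smul_smul] at e
      simpa [hx0 i] using e
    subst hc
    simp only [Pi.zero_apply, zero_smul, Finset.sum_const_zero, zero_add] at hcy'
    exact Prod.ext rfl (Subtype.ext hcy')
  have := LinearMap.finrank_le_finrank_of_injective hL
  rwa [Module.finrank_prod, Module.finrank_fintype_fun_eq_card] at this

theorem exists_has_of_notMem_fixRoot {x : U} (hx : x ∉ fixRoot R) :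
    ∃ (a : F) (v : Vec m F), a ≠ 0 ∧ Has R rad (chi a v) := by
  by_contra hcon
  push Not at hcon
  apply hx
  have hmem : ∀ χ : AddChar (Vec m F × F) ℂ, proj' R χ x ∈ fixRoot R := by
    intro χ
    obtain ⟨a, v, rfl⟩ := exists_chi χ
    by_cases h0 : proj' R (chi a v) x = 0
    · rw [h0]; exact zero_mem _
    · rcases eq_or_ne a 0 with rfl | ha
      · refine (mem_fixRoot R).2 fun c => ?_
        rw [← rad_center]
        show radOp R (0, c) _ = _
        rw [radOp_proj, chi_apply]
        simp
      · exact absurd ⟨_, h0, fun z => radOp_proj R _ z x⟩ (hcon a v ha)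
  have h : ∑ χ, proj' R χ x ∈ fixRoot R := sum_mem fun χ _ => hmem χ
  rw [sum_proj] at h
  exact (Submodule.smul_mem_iff _ (Nat.cast_ne_zero.2 Fintype.card_ne_zero)).1 h

theorem exists_has_of_notMem_fixRad {x : U} (hx : x ∈ fixRoot R) (hx' : x ∉ fixRad R) :
    ∃ v : Vec m F, v ≠ 0 ∧ Has R rad (chi 0 v) := by
  by_contra hcon
  push Not at hcon
  apply hx'
  have hmem : ∀ χ : AddChar (Vec m F × F) ℂ, proj' R χ x ∈ fixRad R := by
    intro χ
    obtain ⟨a, v, rfl⟩ := exists_chi χ
    by_cases h0 : proj' R (chi a v) x = 0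
    · rw [h0]; exact zero_mem _
    have heig : ∀ z, radOp R z (proj' R (chi a v) x) = chi a v z • proj' R (chi a v) x :=
      fun z => radOp_proj R _ z x
    have ha : a = 0 := eq_zero_of_sgn fun c => by
      have h1 : radOp R (0, c) (proj' R (chi a v) x) = proj' R (chi a v) x := by
        rw [proj', LinearMap.sum_apply, map_sum]
        refine Finset.sum_congr rfl fun z _ => ?_
        rw [LinearMap.smul_apply, map_smul, ← Module.End.mul_apply, ← radOp_add, add_comm, radOp_add,
          Module.End.mul_apply]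
        congr 2
        show R (rad _) x = x
        rw [rad_center]
        exact (mem_fixRoot R).1 hx c
      have h2 := (heig (0, c)).symm.trans h1
      have h3 : chi a v (0, c) = 1 := smul_left_injective ℂ h0 (h2.trans (one_smul ℂ _).symm)
      simpa [chi_apply, mul_comm] using h3
    subst ha
    rcases eq_or_ne v 0 with rfl | hv
    · refine (mem_fixRad R).2 fun z => ?_
      rw [heig, chi_apply]
      simp
    · exact absurd ⟨_, h0, heig⟩ (hcon v hv)
  have h : ∑ χ, proj' R χ x ∈ fixRad R := sum_mem fun χ _ => hmem χ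
  rw [sum_proj] at h
  exact (Submodule.smul_mem_iff _ (Nat.cast_ne_zero.2 Fintype.card_ne_zero)).1 h

omit [Fintype F] [CharP F 2] in
theorem exists_act_eq {n : ℕ} {u w : Vec n F} (hu : u ≠ 0) (hw : w ≠ 0) : ∃ s : SpM n F, act s u = w := by
  obtain ⟨t, -, ht⟩ := Symp.sp_transitive_ne_zero (Symp.sympBil_isAlt n F)
    (Symp.sympBil_nondegenerate n F) hu hw
  exact ⟨(Symp.symplecticEquiv n F).symm t, (Symp.symplecticEquiv_symm_mulVec t u).trans ht⟩

omit [Fintype F] [CharP F 2] in
theorem eq_one_of_forall_tv {n : ℕ} {H : Type*} [Monoid H] (f : SpM n F →* H)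
    (h : ∀ v c, f (tv v c) = 1) (g : SpM n F) : f g = 1 := by
  have hs : g ∈ Subgroup.closure {A : SpM n F | ∃ (w : Vec n F) (c : F),
      (A : Matrix (Fin n ⊕ Fin n) (Fin n ⊕ Fin n) F) = Cfsg.sympTransvection n w c} := by
    rw [Symp.closure_sympTransvection_eq_top]; trivial
  induction hs using Subgroup.closure_induction'' with
  | one => simp
  | mem A hA => obtain ⟨w, c, e⟩ := hA; rw [show A = tv w c from Subtype.ext e]; exact h w c
  | inv_mem A hA =>
    obtain ⟨w, c, e⟩ := hA
    rw [show A = tv w c from Subtype.ext e, tv_inv]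
    exact h w (-c)
  | mul a b ha hb ea eb => rw [map_mul, ea, eb, one_mul]

omit [Fintype F] in
theorem fixRoot_ne_top (hR : ∃ g, R g ≠ 1) : fixRoot R ≠ ⊤ := by
  obtain ⟨g, hg⟩ := hR
  refine fun htop => hg (eq_one_of_forall_tv R (fun v c => ?_) g)
  rcases eq_or_ne v 0 with rfl | hv
  · rw [show tv (0 : Vec (m + 1) F) c = 1 from ext_act fun x => by simp [tv_act, act_one], map_one]
  obtain ⟨s, hs⟩ := exists_act_eq (eVec_ne_zero (m := m) (F := F)) hv
  have he : R (tv eVec c) = 1 := LinearMap.ext fun x =>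
    (mem_fixRoot R).1 (htop.symm ▸ Submodule.mem_top : x ∈ fixRoot R) c
  rw [← hs, ← conj_tv, map_mul, map_mul, he, mul_one, ← map_mul, mul_inv_cancel, map_one]

theorem has_scale {a : F} {v : Vec m F} (h : Has R rad (chi a v)) {t : F} (ht : t ≠ 0) :
    Has R rad (chi (a * t ^ 2) (t • v)) := by
  have := has_conj h (torus ht) (scale t) (torus_conj ht)
  convert this using 1
  refine DFunLike.ext _ _ fun z => ?_
  show sgn F (a * t ^ 2 * z.2 + bf (t • v) z.1) = sgn F (a * (t ^ 2 * z.2) + bf v (t • z.1))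
  simp only [map_smul, LinearMap.smul_apply, smul_eq_mul]
  rw [mul_assoc]

theorem has_act {v : Vec m F} (h : Has R rad (chi 0 v)) (s : SpM m F) :
    Has R rad (chi 0 (act s v)) := by
  have := has_conj h (embed s⁻¹) (twist s⁻¹) (embed_conj s⁻¹)
  convert this using 1
  refine DFunLike.ext _ _ fun z => ?_
  show sgn F (0 * z.2 + bf (act s v) z.1) = sgn F (0 * _ + bf v (act s⁻¹ z.1))
  rw [zero_mul, zero_mul, ← bf_act s v, act_act_inv]

/-- A transvection translates the parameter along its centre. -/
theorem chi_twist_tv (v u : Vec m F) (l r : F) (hr : r ^ 2 = l ^ 2 * qf u + l) :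
    (chi 1 v).compAddMonoidHom (twist (tv u l)) = chi 1 (v + (r + l * bf v u) • u) := by
  refine DFunLike.ext _ _ fun z => ?_
  show sgn F (1 * (z.2 + qf z.1 + qf (act (tv u l) z.1)) + bf v (act (tv u l) z.1))
    = sgn F (1 * z.2 + bf (v + (r + l * bf v u) • u) z.1)
  rw [tv_act, qf_add, qf_smul]
  simp only [map_add, LinearMap.map_smul, LinearMap.add_apply, LinearMap.smul_apply, smul_eq_mul,
    bf_comm z.1 u]
  set b := bf u z.1
  rw [show 1 * (z.2 + qf z.1 + (qf z.1 + (l * b) ^ 2 * qf u + l * b * b)) + (bf v z.1 + l * b * bf v u)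
      = (r * b) ^ 2 + (z.2 + bf v z.1 + l * b * bf v u) by
        linear_combination CharTwo.add_self_eq_zero (qf z.1) - b ^ 2 * hr,
    AddChar.map_add_eq_mul, sgn_sq, ← AddChar.map_add_eq_mul]
  congr 1
  ring

theorem has_translate {v : Vec m F} (h : Has R rad (chi 1 v)) {d : Vec m F} (hd : d ∈ goodSet v) :
    Has R rad (chi 1 (v + d)) := by
  obtain ⟨μ, hμ⟩ : qform v d ∈ (asHom F).range := (Finset.mem_filter.1 hd).2
  have hμ' : μ ^ 2 + μ = qf d + bf v d ^ 2 := hμ
  have h2 : (2 : F) = 0 := CharP.cast_eq_zero F 2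
  obtain ⟨l, hl⟩ : ∃ l : F, l ^ 2 * (qf d + bf v d ^ 2) + l + 1 = 0 := by
    rcases eq_or_ne μ 0 with rfl | hne
    · exact ⟨1, by linear_combination -hμ' + h2⟩
    · refine ⟨μ⁻¹, ?_⟩
      rw [← hμ']
      field_simp
      linear_combination (μ + 1) * h2
  have hr : (1 + l * bf v d) ^ 2 = l ^ 2 * qf d + l := by
    linear_combination hl + (l * bf v d - l ^ 2 * qf d - l) * h2
  have := has_conj h (embed (tv d l)) (twist (tv d l)) (embed_conj _)
  rw [chi_twist_tv v d l _ hr, add_assoc, CharTwo.add_self_eq_zero, add_zero, one_smul] at this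
  exact this

/-- The characters nontrivial on the root group that are obtained from one of them. -/
abbrev Orbit (v : Vec m F) : Type _ := {t : F // t ≠ 0} × {d : Vec m F // d ∈ goodSet v}

/-- Their parametrisation. -/
noncomputable def orbitChar (v : Vec m F) (p : Orbit v) : AddChar (Vec m F × F) ℂ :=
  chi ((p.1 : F) ^ 2) ((p.1 : F) • (v + (p.2 : Vec m F)))

theorem orbitChar_injective (v : Vec m F) : Function.Injective (orbitChar v) := by
  rintro ⟨⟨t, ht⟩, d⟩ ⟨⟨t', ht'⟩, d'⟩ h
  have h' := @chi_injective F _ _ _ m (t ^ 2, t • (v + (d : Vec m F))) (t' ^ 2, t' • (v + (d' : Vec m F))) h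
  simp only [Prod.mk.injEq] at h'
  obtain rfl : t = t' := CharTwo.sq_injective h'.1
  have hd : (d : Vec m F) = d' := add_left_cancel (smul_right_injective _ ht h'.2)
  exact Prod.ext rfl (Subtype.ext hd)

theorem orbitChar_ne_zero (v : Vec m F) (p : Orbit v) : orbitChar v p ≠ 0 := fun h =>
  p.1.2 (eq_zero_of_pow_eq_zero (chi_eq_zero_iff.1 h).1)

theorem exists_orbit (hR : ∃ g, R g ≠ 1) :
    ∃ v : Vec m F, Has R rad (chi 1 v) ∧ ∀ p, Has R rad (orbitChar v p) := by
  obtain ⟨x, -, hx⟩ := SetLike.exists_of_lt (fixRoot_ne_top R hR).lt_top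
  obtain ⟨a, v, ha, h⟩ := exists_has_of_notMem_fixRoot R hx
  obtain ⟨b, hb⟩ := FiniteField.isSquare_of_char_two (ringChar.eq F 2) a
  have hb0 : b ≠ 0 := fun e => ha (by rw [hb, e, zero_mul])
  have h1 := has_scale R h (inv_ne_zero hb0)
  rw [show a * b⁻¹ ^ 2 = 1 by rw [hb]; field_simp] at h1
  refine ⟨_, h1, fun p => ?_⟩
  have h3 := has_scale R (has_translate R h1 p.2.2) p.1.2
  rwa [one_mul] at h3

theorem card_orbit (v : Vec m F) :
    (Fintype.card F - 1) * (Fintype.card F ^ m * (Fintype.card F ^ m - 1))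
      ≤ 2 * Fintype.card (Orbit v) := by
  rw [Fintype.card_prod, Fintype.card_subtype_compl, Fintype.card_subtype_eq, Fintype.card_coe,
    Nat.mul_left_comm 2]
  exact Nat.mul_le_mul_left _ (two_mul_card_goodSet v)

theorem exists_singular (hm : 2 ≤ m) (v : Vec m F) : ∃ u : Vec m F, u ≠ 0 ∧ qform v u = 0 := by
  haveI : Nontrivial (Vec m F) := Symp.nontrivial_sympSpace (by omega)
  obtain ⟨u₁, hu₁⟩ := exists_ne (0 : Vec m F)
  by_cases h₁ : qform v u₁ = 0
  · exact ⟨u₁, hu₁, h₁⟩
  obtain ⟨x, hx⟩ := exists_bf_eq_one hu₁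
  obtain ⟨u₂, hu₂, hp1, hp2⟩ := exists_perp_two hm u₁ x
  obtain ⟨a, ha⟩ := FiniteField.isSquare_of_char_two (ringChar.eq F 2) (qform v u₂ / qform v u₁)
  refine ⟨a • u₁ + u₂, fun h => ?_, ?_⟩
  · have h' := congrArg (fun y => bf x y) h
    simp only [map_add, LinearMap.map_smul, smul_eq_mul, hx, map_zero] at h'
    rw [bf_comm x u₂, hp2, add_zero, mul_one] at h'
    rw [h', zero_smul, zero_add] at h
    exact hu₂ h
  · rw [qform_add, LinearMap.map_smul, LinearMap.smul_apply, bf_comm u₁, hp1, smul_zero, add_zero,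
      qform, qf_smul, LinearMap.map_smul, smul_eq_mul, mul_pow, ← mul_add, ← qform, sq, ← ha,
      div_mul_cancel₀ _ h₁]
    exact CharTwo.add_self_eq_zero _

theorem fixRad_ne_fixRoot [FiniteDimensional ℂ U] (hm : 2 ≤ m) {v : Vec m F}
    (hv : Has R rad (chi 1 v))
    (htriv : ∀ (s : SpM m F), ∀ x ∈ fixRad R, R (embed s) x = x) : fixRad R ≠ fixRoot R := by
  intro heq
  obtain ⟨x, hx0, hx⟩ := hv
  obtain ⟨u, hu, hq⟩ := exists_singular hm v
  let X : F → Module.End ℂ U := fun l => R (tv (ext u) l)
  have hXadd : ∀ l l', X (l + l') = X l * X l' := fun l l' => by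
    simp only [X, ← map_mul, tv_mul]
  -- the fixed space of the conjugate root group is the fixed space of the radical
  obtain ⟨s, hs⟩ := exists_act_eq (eVec_ne_zero (m := m) (F := F))
    (fun h => hu (ext_injective (h.trans (map_zero ext).symm)))
  have hfix : ∀ y : U, (∀ l, X l y = y) → y ∈ fixRad R := by
    intro y hy
    let e : U ≃ₗ[ℂ] U := LinearEquiv.ofLinear (R s) (R s⁻¹)
      (by rw [← Module.End.mul_eq_comp, ← map_mul, mul_inv_cancel, map_one]; rfl)
      (by rw [← Module.End.mul_eq_comp, ← map_mul, inv_mul_cancel, map_one]; rfl)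
    have hfx : ∀ z, z ∈ fixRad R → ∀ l, X l z = z := fun z hz l => by
      show R (tv (ext u) l) z = z
      rw [← embed_tv]; exact htriv _ z hz
    have hmap : fixRad R = (fixRoot R).map e.toLinearMap := by
      refine Submodule.eq_of_le_of_finrank_le (fun z hz => ?_) ?_
      · refine Submodule.mem_map.2 ⟨R s⁻¹ z, (mem_fixRoot R).2 fun c => ?_, ?_⟩
        · have := congrArg (R s⁻¹) (hfx z hz c)
          rw [← Module.End.mul_apply, show R s⁻¹ * X c = R (tv eVec c) * R s⁻¹ by
            simp only [X, ← map_mul, ← hs, ← conj_tv]; congr 1; group, Module.End.mul_apply] at this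
          exact this
        · show R s (R s⁻¹ z) = z
          rw [← Module.End.mul_apply, ← map_mul, mul_inv_cancel, map_one]; rfl
      · rw [LinearEquiv.finrank_map_eq, heq]
    rw [hmap]
    refine Submodule.mem_map.2 ⟨R s⁻¹ y, (mem_fixRoot R).2 fun c => ?_, ?_⟩
    · have := congrArg (R s⁻¹) (hy c)
      rw [← Module.End.mul_apply, show R s⁻¹ * X c = R (tv eVec c) * R s⁻¹ by
        simp only [X, ← map_mul, ← hs, ← conj_tv]; congr 1; group, Module.End.mul_apply] at this
      exact this
    · show R s (R s⁻¹ y) = y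
      rw [← Module.End.mul_apply, ← map_mul, mul_inv_cancel, map_one]; rfl
  -- the sum over the root group of the eigenvector is fixed but is not in the fixed space
  set y := ∑ l, X l x with hy
  have hyfix : y ∈ fixRad R := hfix y fun l => by
    rw [hy, map_sum]
    simp only [← Module.End.mul_apply, ← hXadd]
    exact Equiv.sum_comp (Equiv.addLeft l) fun k => X k x
  have heig : ∀ l : F, ∃ k : F, (l ≠ 0 → k ≠ 0) ∧
      ∀ z, radOp R z (X l x) = chi 1 (v + k • u) z • X l x := by
    intro l
    obtain ⟨r, hr⟩ := FiniteField.isSquare_of_char_two (ringChar.eq F 2) (l ^ 2 * qf u + l)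
    rw [← sq] at hr
    refine ⟨r + l * bf v u, fun hl hk => hl ?_, fun z => ?_⟩
    · have : (r + l * bf v u) ^ 2 = l := by
        rw [CharTwo.add_sq, ← hr, mul_pow]
        have hq' : qf u + bf v u ^ 2 = 0 := hq
        linear_combination l ^ 2 * hq'
      rw [hk] at this
      simpa using this.symm
    rw [← chi_twist_tv v u l r hr.symm]
    show R _ (R (tv (ext u) l) x) = _ • R (tv (ext u) l) x
    rw [← Module.End.mul_apply, ← map_mul, ← embed_tv,
      show rad (Multiplicative.ofAdd z) * embed (tv u l)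
        = embed (tv u l) * rad (Multiplicative.ofAdd (twist (tv u l) z)) by
        have h := embed_conj (tv u l) z
        have hinv : (embed (tv u l))⁻¹ = embed (tv u l) := by
          rw [← map_inv, tv_inv, CharTwo.neg_eq]
        rw [← h]
        nth_rw 2 [← hinv]
        rw [hinv]
        nth_rw 3 [← hinv]
        group,
      map_mul, Module.End.mul_apply, hx, map_smul]
    rfl
  choose k hk0 hk using heig
  have h1 : proj' R (chi 1 v) y = 0 := by
    rw [proj_eigen R (μ := 0) (fun z => by
      rw [(mem_fixRad R).1 hyfix z, AddChar.zero_apply, one_smul]),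
      if_neg (fun h => one_ne_zero (chi_eq_zero_iff.1 h).1), zero_smul]
  rw [hy, map_sum, Finset.sum_eq_single (0 : F) (fun l _ hl => ?_) (fun h => absurd (Finset.mem_univ _) h)] at h1
  · rw [show X 0 x = x by simp only [X, tv_zero, map_one]; rfl, proj_eigen R hx, if_pos rfl] at h1
    exact hx0 ((smul_eq_zero.1 h1).resolve_left (Nat.cast_ne_zero.2 Fintype.card_ne_zero))
  · rw [proj_eigen R (hk l), if_neg, zero_smul]
    intro h
    have h2 := @chi_injective F _ _ _ m (1, v) (1, v + k l • u) h
    simp only [Prod.mk.injEq, true_and, left_eq_add, smul_eq_zero] at h2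
    exact h2.elim (hk0 l hl) hu

omit [Fintype F] in
theorem fixRad_invariant (s : SpM m F) {x : U} (hx : x ∈ fixRad R) : R (embed s) x ∈ fixRad R := by
  refine (mem_fixRad R).2 fun z => ?_
  have h := embed_conj s⁻¹ z
  rw [map_inv, inv_inv] at h
  show R _ (R (embed s) x) = _
  rw [← Module.End.mul_apply, ← map_mul,
    show rad (Multiplicative.ofAdd z) * embed s = embed s * rad (Multiplicative.ofAdd (twist s⁻¹ z)) by
      rw [← h]; group,
    map_mul, Module.End.mul_apply]
  exact congrArg _ ((mem_fixRad R).1 hx _)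

/-- The action of the smaller group on the fixed points of the radical. -/
noncomputable def fixRep : SpM m F →* Module.End ℂ (fixRad R) where
  toFun s := LinearMap.restrict (R (embed s)) fun _ hx => fixRad_invariant R s hx
  map_one' := LinearMap.ext fun x => Subtype.ext (by simp [LinearMap.restrict_apply])
  map_mul' s t := LinearMap.ext fun x => Subtype.ext (by
    simp [LinearMap.restrict_apply, Module.End.mul_apply])

theorem fixRep_apply (s : SpM m F) (x : fixRad R) : (fixRep R s x : U) = R (embed s) x := rfl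

/-- The bound on the degree, with denominators cleared. -/
theorem le_finrank (n : ℕ) : ∀ (U : Type) [AddCommGroup U] [Module ℂ U] [FiniteDimensional ℂ U]
    (R : SpM (n + 1) F →* Module.End ℂ U), (∃ g, R g ≠ 1) →
    Fintype.card F * (Fintype.card F ^ (n + 1) - 1) * (Fintype.card F ^ n - 1)
      ≤ 2 * (Fintype.card F + 1) * finrank ℂ U := by
  induction n with
  | zero => intros; simp
  | succ n ih =>
    intro U _ _ _ R hR
    obtain ⟨v, hv, hvo⟩ := exists_orbit R hR
    have hq2 : 2 ≤ Fintype.card F := Fintype.one_lt_card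
    have hN := card_orbit v
    have hJ := card_add_finrank_le R (orbitChar v) (orbitChar_injective v) (orbitChar_ne_zero v) hvo
    set q := Fintype.card F with hq
    have h1 : 1 ≤ q ^ n := Nat.one_le_pow _ _ (by omega)
    have h2 : 1 ≤ q ^ (n + 1) := Nat.one_le_pow _ _ (by omega)
    have h3 : 1 ≤ q ^ (n + 1 + 1) := Nat.one_le_pow _ _ (by omega)
    -- it suffices to find the degree of the smaller group beside the orbit
    suffices hkey : ∃ c, Fintype.card (Orbit v) + c ≤ finrank ℂ U ∧
        q * (q ^ (n + 1) - 1) * (q ^ n - 1) ≤ 2 * (q + 1) * c by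
      obtain ⟨c, hc1, hc2⟩ := hkey
      refine le_trans ?_ (Nat.mul_le_mul_left _ hc1)
      have hN' := Nat.mul_le_mul_left (q + 1) hN
      zify [h1, h2, h3, (by omega : 1 ≤ q)] at hc2 hN' ⊢
      simp only [pow_succ] at hc2 hN' ⊢
      linarith
    rcases Nat.eq_zero_or_pos n with rfl | hn
    · exact ⟨0, le_trans (by omega) hJ, by simp⟩
    by_cases hA : ∃ s, fixRep R s ≠ 1
    · exact ⟨finrank ℂ (fixRad R), hJ, ih _ (fixRep R) hA⟩
    push Not at hA
    obtain ⟨x, hx, hx'⟩ := SetLike.exists_of_lt (lt_of_le_of_ne (fixRad_le_fixRoot R)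
      (fixRad_ne_fixRoot R (m := n + 1) (by omega) hv fun s x hx =>
        (fixRep_apply R s ⟨x, hx⟩).symm.trans (by rw [hA s]; rfl)))
    obtain ⟨w, hw0, hw⟩ := exists_has_of_notMem_fixRad R hx hx'
    refine ⟨q ^ (n + 1) * q ^ (n + 1) - 1, ?_, ?_⟩
    · let μ : Orbit v ⊕ {y : Vec (n + 1) F // y ≠ 0} → AddChar (Vec (n + 1) F × F) ℂ :=
        Sum.elim (orbitChar v) fun y => chi 0 y.1
      have h := card_add_finrank_le R μ ?_ ?_ ?_
      · rw [Fintype.card_sum, Fintype.card_subtype_compl, Fintype.card_subtype_eq] at h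
        have hW : Fintype.card (Vec (n + 1) F) = q ^ (n + 1) * q ^ (n + 1) := by
          rw [Fintype.card_fun, Fintype.card_sum, Fintype.card_fin, pow_add]
        rw [hW] at h
        omega
      · rintro (a | a) (b | b) e
        · exact congrArg Sum.inl (orbitChar_injective v e)
        · exact absurd (congrArg Prod.fst (@chi_injective F _ _ _ _ (_, _) (_, _) e))
            (pow_ne_zero 2 a.1.2)
        · exact absurd (congrArg Prod.fst (@chi_injective F _ _ _ _ (_, _) (_, _) e)).symm
            (pow_ne_zero 2 b.1.2)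
        · exact congrArg Sum.inr (Subtype.ext (congrArg Prod.snd (@chi_injective F _ _ _ _ (_, _) (_, _) e)))
      · rintro (a | a)
        · exact orbitChar_ne_zero v a
        · exact fun e => a.2 (chi_eq_zero_iff.1 e).2
      · rintro (a | a)
        · exact hvo a
        · obtain ⟨s, hs⟩ := exists_act_eq hw0 a.2
          show Has R rad (chi 0 a.1)
          rw [← hs]
          exact has_act R hw s
    · have h4 : q * (q ^ n - 1) ≤ 2 * (q + 1) * (q ^ (n + 1) + 1) := by
        calc q * (q ^ n - 1) ≤ q * q ^ n := Nat.mul_le_mul_left _ (Nat.sub_le _ _)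
          _ = q ^ (n + 1) := (pow_succ' q n).symm
          _ ≤ _ := by
            calc q ^ (n + 1) ≤ q ^ (n + 1) + 1 := Nat.le_succ _
              _ ≤ _ := Nat.le_mul_of_pos_left _ (by positivity)
      calc q * (q ^ (n + 1) - 1) * (q ^ n - 1) = q * (q ^ n - 1) * (q ^ (n + 1) - 1) := by ring
        _ ≤ 2 * (q + 1) * (q ^ (n + 1) + 1) * (q ^ (n + 1) - 1) := Nat.mul_le_mul_right _ h4
        _ = 2 * (q + 1) * ((q ^ (n + 1) + 1) * (q ^ (n + 1) - 1)) := mul_assoc _ _ _
        _ = _ := by rw [← Nat.mul_self_sub_mul_self_eq, one_mul]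

end CfsgLib.Known.SpEvenDegree
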