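import Cfsg.Agent.Lib.Known.AutPSp.Basic
import Mathlib.Algebra.CharP.Two

/-!
The radical of the stabiliser of a point of the symplectic space in characteristic two,
parametrised additively, and the embedded symplectic group of two dimensions fewer.
-/

set_option autoImplicit false

namespace CfsgLib.Known.SpEvenDegree

open scoped Matrix
open CfsgLib.Known.AutPSp CfsgLib.Classical

variable {m : ℕ} {F : Type*} [Field F]

/-- The first basis vector. -/
noncomputable def eVec : Vec (m + 1) F := Pi.single (Sum.inl 0) 1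

/-- Its partner. -/
noncomputable def fVec : Vec (m + 1) F := Pi.single (Sum.inr 0) 1

/-- Insertion of the smaller space. -/
def ext : Vec m F →ₗ[F] Vec (m + 1) F where
  toFun x := Sum.elim (Fin.cons 0 (fun i => x (Sum.inl i))) (Fin.cons 0 (fun i => x (Sum.inr i)))
  map_add' x y := by
    funext i
    rcases i with i | i <;> refine Fin.cases ?_ (fun j => ?_) i <;> simp
  map_smul' a x := by
    funext i
    rcases i with i | i <;> refine Fin.cases ?_ (fun j => ?_) i <;> simp

/-- Projection to the smaller space. -/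
def res : Vec (m + 1) F →ₗ[F] Vec m F where
  toFun x := Sum.elim (fun i => x (Sum.inl i.succ)) (fun i => x (Sum.inr i.succ))
  map_add' x y := by funext i; rcases i with i | i <;> simp
  map_smul' a x := by funext i; rcases i with i | i <;> simp

theorem bf_eq {n : ℕ} (u v : Vec n F) :
    bf u v = ∑ i, (u (Sum.inr i) * v (Sum.inl i) - u (Sum.inl i) * v (Sum.inr i)) := by
  rw [Symp.sympBil_apply, Symp.sympForm_expand]

theorem res_ext (x : Vec m F) : res (ext x) = x := by
  funext i; rcases i with i | i <;> simp [res, ext]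

theorem ext_injective : Function.Injective (ext (m := m) (F := F)) := fun x y h => by
  rw [← res_ext x, h, res_ext]

theorem res_eVec : res (eVec : Vec (m + 1) F) = 0 := by
  funext i; rcases i with i | i <;> simp [res, eVec, Pi.single_apply, Fin.succ_ne_zero]

theorem bf_ext (x : Vec (m + 1) F) (y : Vec m F) : bf x (ext y) = bf (res x) y := by
  rw [bf_eq, bf_eq, Fin.sum_univ_succ]
  simp [res, ext]

theorem ext_bf (x : Vec (m + 1) F) (y : Vec m F) : bf (ext y) x = bf y (res x) := by
  rw [bf_swap, bf_ext, bf_swap y, neg_neg]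

theorem bf_ext_ext (x y : Vec m F) : bf (ext x) (ext y) = bf x y := by rw [bf_ext, res_ext]

theorem bf_eVec_ext (y : Vec m F) : bf (eVec : Vec (m + 1) F) (ext y) = 0 := by
  rw [bf_ext, res_eVec, map_zero, LinearMap.zero_apply]

theorem bf_ext_eVec (y : Vec m F) : bf (ext y) (eVec : Vec (m + 1) F) = 0 := by
  rw [bf_swap, bf_eVec_ext, neg_zero]

theorem eVec_ne_zero : (eVec : Vec (m + 1) F) ≠ 0 := by
  intro h
  simpa [eVec] using congrFun h (Sum.inl 0)

/-- The linear map of the embedded element. -/
def embedLin (s : SpM m F) : Vec (m + 1) F →ₗ[F] Vec (m + 1) F :=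
  LinearMap.id + ext.comp ((Matrix.mulVecLin (s : Matrix (Fin m ⊕ Fin m) (Fin m ⊕ Fin m) F)).comp res - res)

theorem embedLin_apply (s : SpM m F) (x : Vec (m + 1) F) :
    embedLin s x = x + ext (act s (res x) - res x) := rfl

theorem res_embedLin (s : SpM m F) (x : Vec (m + 1) F) : res (embedLin s x) = act s (res x) := by
  rw [embedLin_apply, map_add, res_ext, add_sub_cancel]

theorem bf_embedLin (s : SpM m F) (x y : Vec (m + 1) F) :
    bf (embedLin s x) (embedLin s y) = bf x y := by
  have h := bf_act s (res x) (res y)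
  simp only [embedLin_apply, map_add, LinearMap.add_apply, bf_ext, ext_bf, res_ext]
  simp only [map_sub, LinearMap.sub_apply, h]
  ring

/-- The embedded element. -/
noncomputable def embedFun (s : SpM m F) : SpM (m + 1) F :=
  ⟨LinearMap.toMatrix' (embedLin s), Symp.mem_symplecticGroup_iff_form.2 fun u v => by
    rw [LinearMap.toMatrix'_mulVec, LinearMap.toMatrix'_mulVec, ← Symp.sympBil_apply,
      ← Symp.sympBil_apply, bf_embedLin]⟩

theorem act_embedFun (s : SpM m F) (x : Vec (m + 1) F) : act (embedFun s) x = embedLin s x :=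
  LinearMap.toMatrix'_mulVec _ _

/-- The symplectic group of two dimensions fewer inside the larger one. -/
noncomputable def embed : SpM m F →* SpM (m + 1) F :=
  MonoidHom.mk' embedFun fun s t => ext_act fun x => by
    simp only [act_mul, act_embedFun, embedLin_apply]
    rw [map_add, res_ext, add_sub_cancel, add_assoc, ← map_add, sub_add_sub_cancel']

theorem act_embed (s : SpM m F) (x : Vec (m + 1) F) :
    act (embed s) x = x + ext (act s (res x) - res x) := act_embedFun s x

theorem embed_eVec (s : SpM m F) : act (embed s) (eVec : Vec (m + 1) F) = eVec := by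
  rw [act_embed, res_eVec, show act s 0 = (0 : Vec m F) from Matrix.mulVec_zero _, sub_zero, map_zero,
    add_zero]

theorem embed_ext (s : SpM m F) (w : Vec m F) : act (embed s) (ext w) = ext (act s w) := by
  rw [act_embed, res_ext, ← map_add, add_sub_cancel]

theorem embed_tv (u : Vec m F) (l : F) : embed (tv u l) = tv (ext u) l := ext_act fun x => by
  rw [act_embed, tv_act, tv_act, add_sub_cancel_left, map_smul, bf_ext]

/-- The standard quadratic form polarising to the alternating form in characteristic two. -/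
def qf {n : ℕ} (x : Vec n F) : F := ∑ i, x (Sum.inl i) * x (Sum.inr i)

variable [CharP F 2]

theorem qf_add {n : ℕ} (x y : Vec n F) : qf (x + y) = qf x + qf y + bf x y := by
  rw [bf_eq, qf, qf, qf, ← Finset.sum_add_distrib, ← Finset.sum_add_distrib]
  refine Finset.sum_congr rfl fun i _ => ?_
  rw [Pi.add_apply, Pi.add_apply, CharTwo.sub_eq_add]
  ring

omit [CharP F 2] in
theorem qf_smul {n : ℕ} (a : F) (x : Vec n F) : qf (a • x) = a ^ 2 * qf x := by
  rw [qf, qf, Finset.mul_sum]
  refine Finset.sum_congr rfl fun i _ => ?_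
  simp only [Pi.smul_apply, smul_eq_mul]
  ring

theorem bf_comm {n : ℕ} (x y : Vec n F) : bf x y = bf y x := by
  rw [bf_swap y x, CharTwo.neg_eq]

theorem qf_zero {n : ℕ} : qf (0 : Vec n F) = 0 := by simp [qf]

theorem triple_act (p w x : Vec (m + 1) F) (C : F) (hpw : bf p w = 0) :
    act (tv (p + w) 1 * tv w 1 * tv p (C + 1)) x
      = x + bf x p • w + (bf x w + C * bf x p) • p := by
  simp only [act_mul, tv_act, map_add, LinearMap.map_smul, LinearMap.add_apply, LinearMap.smul_apply,
    smul_eq_mul, hpw, bf_self, bf_eq_zero_comm.1 hpw, mul_zero, add_zero, one_mul]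
  have h2 : (2 : F) = 0 := CharP.cast_eq_zero F 2
  linear_combination (norm := module) h2 • (bf x p • p + bf x w • w)

/-- An element of the radical. -/
noncomputable def radFun (w : Vec m F) (c : F) : SpM (m + 1) F :=
  tv (eVec + ext w) 1 * tv (ext w) 1 * tv eVec (c + qf w + 1)

theorem act_radFun (w : Vec m F) (c : F) (x : Vec (m + 1) F) :
    act (radFun w c) x
      = x + bf x eVec • ext w + (bf x (ext w) + (c + qf w) * bf x eVec) • eVec :=
  triple_act _ _ _ _ (bf_eVec_ext w)

/-- The radical. -/
noncomputable def rad : Multiplicative (Vec m F × F) →* SpM (m + 1) F :=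
  MonoidHom.mk' (fun z => radFun z.toAdd.1 z.toAdd.2) fun a b => ext_act fun x => by
    set w := a.toAdd.1
    set c := a.toAdd.2
    set w' := b.toAdd.1
    set c' := b.toAdd.2
    show act (radFun (w + w') (c + c')) x = act (radFun w c * radFun w' c') x
    rw [act_mul]
    simp only [act_radFun, qf_add]
    simp only [map_add, LinearMap.map_smul, LinearMap.add_apply, LinearMap.smul_apply,
      smul_eq_mul, bf_eVec_ext, bf_ext_eVec, bf_self, bf_ext_ext, mul_zero, add_zero]
    rw [bf_comm w w']
    module

theorem rad_apply (w : Vec m F) (c : F) : rad (Multiplicative.ofAdd (w, c)) = radFun w c := rfl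

theorem rad_center (c : F) : rad (Multiplicative.ofAdd ((0 : Vec m F), c)) = tv eVec c :=
  ext_act fun x => by
    rw [rad_apply, act_radFun, tv_act]
    simp [qf_zero]

/-- Conjugation by the smaller group. -/
noncomputable def twist (s : SpM m F) : Vec m F × F →+ Vec m F × F where
  toFun z := (act s z.1, z.2 + qf z.1 + qf (act s z.1))
  map_zero' := by simp [act, qf_zero]
  map_add' a b := by
    refine Prod.ext (act_add s _ _) ?_
    show a.2 + b.2 + qf (a.1 + b.1) + qf (act s (a.1 + b.1))
      = a.2 + qf a.1 + qf (act s a.1) + (b.2 + qf b.1 + qf (act s b.1))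
    rw [act_add, qf_add, qf_add, bf_act]
    linear_combination CharTwo.add_self_eq_zero (bf a.1 b.1)

theorem embed_conj (s : SpM m F) (z : Vec m F × F) :
    embed s * rad (Multiplicative.ofAdd z) * (embed s)⁻¹ = rad (Multiplicative.ofAdd (twist s z)) := by
  show embed s * radFun z.1 z.2 * (embed s)⁻¹ = radFun (twist s z).1 (twist s z).2
  simp only [radFun, show ∀ a b c g : SpM (m + 1) F,
      g * (a * b * c) * g⁻¹ = (g * a * g⁻¹) * (g * b * g⁻¹) * (g * c * g⁻¹) from fun a b c g => by group,
    conj_tv, act_add, embed_eVec, embed_ext]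
  show _ * tv eVec (z.2 + qf z.1 + 1) = _ * tv eVec (z.2 + qf z.1 + qf (act s z.1) + qf (act s z.1) + 1)
  rw [show z.2 + qf z.1 + qf (act s z.1) + qf (act s z.1) = z.2 + qf z.1 by
    linear_combination CharTwo.add_self_eq_zero (qf (act s z.1))]
  rfl

/-- The linear map of a torus element. -/
noncomputable def torusLin (t : F) : Vec (m + 1) F →ₗ[F] Vec (m + 1) F :=
  LinearMap.id + (t - 1) • (LinearMap.proj (Sum.inl 0)).smulRight eVec
    + (t⁻¹ - 1) • (LinearMap.proj (Sum.inr 0)).smulRight fVec

omit [CharP F 2] in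
theorem torusLin_mem {t : F} (ht : t ≠ 0) :
    LinearMap.toMatrix' (torusLin (m := m) t) ∈ Matrix.symplecticGroup (Fin (m + 1)) F :=
  Symp.mem_symplecticGroup_iff_form.2 fun u v => by
    rw [LinearMap.toMatrix'_mulVec, LinearMap.toMatrix'_mulVec, Symp.sympForm_expand,
      Symp.sympForm_expand, Fin.sum_univ_succ, Fin.sum_univ_succ]
    simp [torusLin, eVec, fVec, Pi.single_apply, Fin.succ_ne_zero]
    field_simp
    ring

/-- A torus element. -/
noncomputable def torus {t : F} (ht : t ≠ 0) : SpM (m + 1) F := ⟨_, torusLin_mem ht⟩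

omit [CharP F 2] in
theorem torus_eVec {t : F} (ht : t ≠ 0) :
    act (torus ht) (eVec : Vec (m + 1) F) = t • eVec := by
  show LinearMap.toMatrix' (torusLin (m := m) t) *ᵥ eVec = _
  rw [LinearMap.toMatrix'_mulVec]
  funext i
  rcases i with i | i <;> simp [torusLin, eVec, fVec, Pi.single_apply]
  split <;> simp_all

omit [CharP F 2] in
theorem torus_ext {t : F} (ht : t ≠ 0) (w : Vec m F) : act (torus ht) (ext w) = ext w := by
  show LinearMap.toMatrix' (torusLin (m := m) t) *ᵥ ext w = _
  rw [LinearMap.toMatrix'_mulVec]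
  funext i
  simp [torusLin, ext]

/-- Conjugation by a torus element. -/
noncomputable def scale (t : F) : Vec m F × F →+ Vec m F × F where
  toFun z := (t • z.1, t ^ 2 * z.2)
  map_zero' := by simp
  map_add' a b := by ext <;> simp [mul_add]

theorem torus_conj {t : F} (ht : t ≠ 0) (z : Vec m F × F) :
    torus ht * rad (Multiplicative.ofAdd z) * (torus ht)⁻¹ = rad (Multiplicative.ofAdd (scale t z)) := by
  show torus ht * radFun z.1 z.2 * (torus ht)⁻¹ = radFun (t • z.1) (t ^ 2 * z.2)
  simp only [radFun, show ∀ a b c g : SpM (m + 1) F,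
      g * (a * b * c) * g⁻¹ = (g * a * g⁻¹) * (g * b * g⁻¹) * (g * c * g⁻¹) from fun a b c g => by group,
    conj_tv, act_add, torus_eVec, torus_ext]
  refine ext_act fun x => ?_
  have hp : bf (t • eVec) (ext z.1) = 0 := by
    rw [LinearMap.map_smul, LinearMap.smul_apply, bf_eVec_ext, smul_zero]
  rw [show act (tv (eVec + ext (t • z.1)) 1 * tv (ext (t • z.1)) 1 * tv eVec (t ^ 2 * z.2 + qf (t • z.1) + 1)) x
    = _ from act_radFun _ _ x, triple_act _ _ _ _ hp]
  simp only [map_smul, LinearMap.smul_apply, smul_eq_mul, qf_smul]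
  module

end CfsgLib.Known.SpEvenDegree
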